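import Groth.Agent.Lib.FibRan16.Sheaf

/-! Morphisms of fibred sites and their total functors. -/

universe u

open CategoryTheory CategoryTheory.Limits Opposite Pseudofunctor Pseudofunctor.CoGrothendieck
open scoped CategoryTheory.Pseudofunctor.StrongTrans

set_option linter.style.haveILetI false
set_option linter.unusedSectionVars false
set_option backward.isDefEq.respectTransparency false
set_option backward.isDefEq.respectTransparency.types false
set_option backward.defeqAttrib.useBackward true

namespace Groth.Agent.FibRan16

open Groth.Agent.FC16.FibTotal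

variable {𝒮 : Type u} [SmallCategory 𝒮] {F G : Pseudofunctor (LocallyDiscrete 𝒮ᵒᵖ) Cat.{u, u}} (α : G ⟶ F)

/-- the total functor -/
abbrev totalFun : ∫ᶜ G ⥤ ∫ᶜ F := Pseudofunctor.CoGrothendieck.map α

/-- on a fibre the total functor is the component -/
noncomputable def ιMapIso (S : 𝒮) : ι G S ⋙ totalFun α ≅ (α.app ⟨op S⟩).toFunctor ⋙ ι F S :=
  NatIso.ofComponents (fun U => Iso.refl _) fun {U V} g => by
    refine (Category.comp_id _).trans (Eq.trans ?_ (Category.id_comp _).symm)
    ext
    · simp
    · simp [StrongTrans.naturality_id_hom_app]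
      refine congrArg (_ ≫ ·) ?_
      erw [← Functor.map_comp_assoc, ← Cat.Hom₂.comp_app, Iso.inv_hom_id]
      simp

/-- the comparison morphism of an inverse image -/
noncomputable abbrev natHom {R S : 𝒮} (f : R ⟶ S) (V : G.obj ⟨op S⟩) :
    (α.app ⟨op R⟩).toFunctor.obj ((FibSite.invImage G f).obj V) ⟶
      (FibSite.invImage F f).obj ((α.app ⟨op S⟩).toFunctor.obj V) :=
  ((totalFun α).map (cartesianLift V f)).fiber

instance isIso_natHom {R S : 𝒮} (f : R ⟶ S) (V : G.obj ⟨op S⟩) : IsIso (natHom α f V) := by
  have h : natHom α f V = (α.naturality f.op.toLoc).hom.toNatTrans.app V := by simp [natHom]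
  have h2 : IsIso ((Cat.Hom.toNatIso (α.naturality f.op.toLoc)).hom.app V) := inferInstance
  rw [h]
  exact h2

theorem map_cart {R S : 𝒮} (f : R ⟶ S) (V : G.obj ⟨op S⟩) :
    (totalFun α).map (cartesianLift V f) =
      (ι F R).map (natHom α f V) ≫ cartesianLift ((α.app ⟨op S⟩).toFunctor.obj V) f :=
  (fac ((totalFun α).map (cartesianLift V f))).symm

variable {J : FibSite.Topologies F} {K : FibSite.Topologies G} (S : 𝒮)
  [(totalFun α).IsContinuous (FibSite.totalTopology G K) (FibSite.totalTopology F J)]
  [(α.app ⟨op S⟩).toFunctor.IsContinuous (K S) (J S)]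
  [(ι F S).IsCocontinuous (J S) (FibSite.totalTopology F J)]
  [(ι G S).IsCocontinuous (K S) (FibSite.totalTopology G K)]
  [(ι G S).IsContinuous (K S) (FibSite.totalTopology G K)]

/-- comparison of direct images, before adjunction -/
noncomputable def beta :
    (FibSite.coextend F J (Type u) S ⋙ (totalFun α).sheafPushforwardContinuous (Type u)
        (FibSite.totalTopology G K) (FibSite.totalTopology F J)) ⋙ FibSite.restr G K (Type u) S ⟶
      (α.app ⟨op S⟩).toFunctor.sheafPushforwardContinuous (Type u) (K S) (J S) where
  app b :=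
    ⟨{ app := fun U => ((ι F S).op.ran.obj b.obj).map ((ιMapIso α S).inv.app U.unop).op ≫
          ((ι F S).op.ranCounit.app b.obj).app (op ((α.app ⟨op S⟩).toFunctor.obj U.unop))
       naturality := fun U U' k => by
        change ((ι F S).op.ran.obj b.obj).map ((totalFun α).map ((ι G S).map k.unop)).op ≫ _ ≫ _ =
          (_ ≫ _) ≫ _
        rw [← Category.assoc, ← Functor.map_comp, ← op_comp]
        refine (congrArg (fun t => ((ι F S).op.ran.obj b.obj).map (Quiver.Hom.op t) ≫ _)
          ((ιMapIso α S).inv.naturality k.unop).symm).trans ?_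
        rw [op_comp, Functor.map_comp, Category.assoc, Category.assoc]
        exact congrArg _ (((ι F S).op.ranCounit.app b.obj).naturality
          ((α.app ⟨op S⟩).toFunctor.map k.unop).op) }⟩
  naturality b b' a := by
    apply ObjectProperty.hom_ext
    ext U : 2
    change ((ι F S).op.ran.map a.hom).app _ ≫ _ ≫ _ = (_ ≫ _) ≫ _
    rw [← Category.assoc, ← NatTrans.naturality, Category.assoc, Category.assoc]
    exact congrArg _ (NatTrans.congr_app ((ι F S).op.ranCounit.naturality a.hom)
      (op ((α.app ⟨op S⟩).toFunctor.obj U.unop)))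

/-- comparison of direct images -/
noncomputable def theta :
    FibSite.coextend F J (Type u) S ⋙ (totalFun α).sheafPushforwardContinuous (Type u)
        (FibSite.totalTopology G K) (FibSite.totalTopology F J) ⟶
      (α.app ⟨op S⟩).toFunctor.sheafPushforwardContinuous (Type u) (K S) (J S) ⋙
        FibSite.coextend G K (Type u) S :=
  Functor.whiskerLeft (FibSite.coextend F J (Type u) S ⋙ (totalFun α).sheafPushforwardContinuous (Type u)
      (FibSite.totalTopology G K) (FibSite.totalTopology F J))
      ((ι G S).sheafAdjunctionCocontinuous (Type u) (K S) (FibSite.totalTopology G K)).unit ≫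
    (Functor.associator _ _ _).inv ≫
    Functor.whiskerRight (beta α S (J := J) (K := K)) (FibSite.coextend G K (Type u) S)

theorem theta_app_comp (b : Sheaf (J S) (Type u)) (Y : ∫ᶜ G) (f : S ⟶ Y.base) :
    ((theta α S (J := J) (K := K)).app b).hom.app (op Y) ≫
        comp ((α.app ⟨op S⟩).toFunctor.op ⋙ b.obj) f =
      comp b.obj (Y := (totalFun α).obj Y) f ≫ b.obj.map (natHom α f Y.fiber).op := by
  let ad := (ι G S).sheafAdjunctionCocontinuous (Type u) (K S) (FibSite.totalTopology G K)
  let W := (FibSite.invImage G f).obj Y.fiber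
  have h0 : (FibSite.restr G K (Type u) S).map ((theta α S (J := J) (K := K)).app b) ≫
      ad.counit.app _ = (beta α S).app b := by
    have := (ad.homEquiv _ _).symm_apply_apply ((beta α S (J := J) (K := K)).app b)
    rw [Adjunction.homEquiv_counit, Adjunction.homEquiv_unit] at this
    exact this
  have h := congrArg (fun t => ((sheafToPresheaf (K S) (Type u)).map t).app (op W)) h0
  change _ ≫ (ad.counit.app _).hom.app (op W) = _ at h
  rw [Functor.sheafAdjunctionCocontinuous_counit_app_hom, Functor.ranAdjunction_counit] at h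
  change _ ≫ (_ ≫ _) = _
  refine ((Category.assoc _ _ _).symm.trans (congrArg (· ≫ _) ((((theta α S (J := J) (K := K)).app b).hom.naturality (cartesianLift Y.fiber f).op).symm))).trans ?_
  rw [Category.assoc]
  refine (congrArg (_ ≫ ·) h).trans ?_
  change ((ι F S).op.ran.obj b.obj).map ((totalFun α).map (cartesianLift Y.fiber f)).op ≫
    ((ι F S).op.ran.obj b.obj).map ((ιMapIso α S).inv.app W).op ≫ _ = _
  rw [← Category.assoc, ← Functor.map_comp, ← op_comp]
  exact π_eq b.obj (Y := (totalFun α).obj Y) _ ((Category.id_comp _).trans (map_cart α f Y.fiber))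

instance isIso_theta : IsIso (theta α S (J := J) (K := K)) := by
  haveI : ∀ b, IsIso ((theta α S (J := J) (K := K)).app b) := fun b => by
    haveI : IsIso ((sheafToPresheaf _ (Type u)).map ((theta α S (J := J) (K := K)).app b)) := by
      rw [NatTrans.isIso_iff_isIso_app]
      intro Y
      rw [isIso_iff_bijective]
      let τ : (∀ f : S ⟶ Y.unop.base, b.obj.obj (op ((FibSite.invImage F f).obj ((totalFun α).obj Y.unop).fiber))) ≃
          (∀ f : S ⟶ Y.unop.base, b.obj.obj (op ((α.app ⟨op S⟩).toFunctor.obj ((FibSite.invImage G f).obj Y.unop.fiber)))) :=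
        Equiv.piCongrRight fun f => (b.obj.mapIso (asIso (natHom α f Y.unop.fiber)).op).toEquiv
      have hG := comp_bijective ((α.app ⟨op S⟩).toFunctor.op ⋙ b.obj) Y.unop
      have hF := comp_bijective b.obj ((totalFun α).obj Y.unop)
      refine (hG.of_comp_iff' _).1 ?_
      exact Eq.subst (motive := Function.Bijective) (funext fun x => funext fun f =>
        (ConcreteCategory.congr_hom (theta_app_comp α S b Y.unop f) x).symm) (τ.bijective.comp hF)
    exact isIso_of_reflects_iso _ (sheafToPresheaf _ (Type u))
  exact NatIso.isIso_of_isIso_app _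

/-- extension commutes with the inverse images -/
noncomputable def pullbackRestrIso [(ι F S).IsContinuous (J S) (FibSite.totalTopology F J)] :
    (totalFun α).sheafPullback (Type u) (FibSite.totalTopology G K) (FibSite.totalTopology F J) ⋙
        (ι F S).sheafPushforwardContinuous (Type u) (J S) (FibSite.totalTopology F J) ≅
      FibSite.restr G K (Type u) S ⋙ (α.app ⟨op S⟩).toFunctor.sheafPullback (Type u) (K S) (J S) :=
  ((((totalFun α).sheafAdjunctionContinuous (Type u) (FibSite.totalTopology G K) (FibSite.totalTopology F J)).comp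
      ((ι F S).sheafAdjunctionCocontinuous (Type u) (J S) (FibSite.totalTopology F J))).ofNatIsoRight
        (asIso (theta α S (J := J) (K := K)))).leftAdjointUniq
    (((ι G S).sheafAdjunctionCocontinuous (Type u) (K S) (FibSite.totalTopology G K)).comp
      ((α.app ⟨op S⟩).toFunctor.sheafAdjunctionContinuous (Type u) (K S) (J S)))

end Groth.Agent.FibRan16
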