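import Mathlib.CategoryTheory.Extensive
import Mathlib.CategoryTheory.Limits.Shapes.Pullback.IsPullback.Basic
import Mathlib.CategoryTheory.Limits.Preserves.Shapes.BinaryProducts
import Mathlib.CategoryTheory.Limits.Constructions.LimitsOfProductsAndEqualizers

/-! Preservation of pullbacks can be tested on squares with a global point. -/

universe v₁ u₁ v₂ u₂

open CategoryTheory CategoryTheory.Limits

set_option linter.style.haveILetI false

namespace Groth.Agent.FibRan16

variable {C : Type u₁} [Category.{v₁} C] {D : Type u₂} [Category.{v₂} D] (L : C ⥤ D)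

/-- a functor preserving binary coproducts preserves pullbacks along coproduct inclusions -/
theorem isPullback_map_inl [FinitaryExtensive C] [FinitaryExtensive D] [HasPullbacks C]
    [PreservesColimitsOfShape (Discrete WalkingPair) L] {X Y Q P : C} {g : Q ⟶ X ⨿ Y} {u : P ⟶ Q} {v : P ⟶ X}
    (h : IsPullback u v g coprod.inl) :
    IsPullback (L.map u) (L.map v) (L.map g) (L.map (coprod.inl : X ⟶ X ⨿ Y)) := by
  have h2 := IsPullback.of_hasPullback g (coprod.inr : Y ⟶ X ⨿ Y)
  obtain ⟨hc⟩ := ((BinaryCofan.isVanKampen_iff _).1 (FinitaryExtensive.vanKampen _ (coprodIsCoprod X Y))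
    (BinaryCofan.mk u (pullback.fst g (coprod.inr : Y ⟶ X ⨿ Y))) v (pullback.snd _ _) g h.w.symm h2.w.symm).2
      ⟨h, h2⟩
  exact ((((BinaryCofan.isVanKampen_iff _).1 (FinitaryExtensive.vanKampen _
      (mapIsColimitOfPreservesOfIsColimit L _ _ (coprodIsCoprod X Y))))
    (BinaryCofan.mk (L.map u) (L.map (pullback.fst g (coprod.inr : Y ⟶ X ⨿ Y)))) (L.map v) (L.map (pullback.snd _ _))
    (L.map g) ((L.map_comp _ _).symm.trans ((congrArg L.map h.w.symm).trans (L.map_comp _ _)))
    ((L.map_comp _ _).symm.trans ((congrArg L.map h2.w.symm).trans (L.map_comp _ _)))).1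
      ⟨mapIsColimitOfPreservesOfIsColimit L _ _ hc⟩).1

/-- preservation of pullbacks can be tested on squares with a global point -/
theorem preservesPullbacks_of_pointed [FinitaryExtensive C] [FinitaryExtensive D] [HasPullbacks C] [HasTerminal C]
    [PreservesColimitsOfShape (Discrete WalkingPair) L]
    (H : ∀ {P A B Z : C} {p₁ : P ⟶ A} {p₂ : P ⟶ B} {a : A ⟶ Z} {b : B ⟶ Z}, IsPullback p₁ p₂ a b →
      (⊤_ C ⟶ P) → IsPullback (L.map p₁) (L.map p₂) (L.map a) (L.map b)) :
    PreservesLimitsOfShape WalkingCospan L := by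
  refine preservesLimitsOfShape_walkingCospan_of_forall_isPullback fun A B Z a b _ => ?_
  refine ⟨_, _, _, IsPullback.of_hasPullback a b, ?_⟩
  let a' : A ⨿ ⊤_ C ⟶ Z ⨿ ⊤_ C := coprod.map a (𝟙 _)
  let b' : B ⨿ ⊤_ C ⟶ Z ⨿ ⊤_ C := coprod.map b (𝟙 _)
  have sq := ((BinaryCofan.isVanKampen_iff _).1 (FinitaryExtensive.vanKampen _ (coprodIsCoprod Z (⊤_ C)))
    (BinaryCofan.mk (coprod.inl : B ⟶ B ⨿ ⊤_ C) coprod.inr) b (𝟙 _) b' (coprod.inl_map _ _).symm ((coprod.inr_map _ _).symm)).1
      ⟨coprodIsCoprod B (⊤_ C)⟩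
  have sq2 : IsPullback (coprod.inl : B ⟶ B ⨿ ⊤_ C) b b' coprod.inl := sq.1
  have hQ : IsPullback (pullback.fst a' b') (pullback.snd a' b') a' b' := IsPullback.of_hasPullback a' b'
  let q : ⊤_ C ⟶ pullback a' b' := pullback.lift coprod.inr coprod.inr (by simp [a', b'])
  have hLQ := H hQ q
  have big := (IsPullback.of_hasPullback a b).flip.paste_horiz sq2
  have e : a ≫ (coprod.inl : Z ⟶ Z ⨿ ⊤_ C) = coprod.inl ≫ a' := by simp [a']
  rw [e] at big
  have hu : IsPullback (hQ.flip.lift (pullback.snd a b ≫ coprod.inl) (pullback.fst a b ≫ coprod.inl)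
      (by exact big.w.trans (Category.assoc _ _ _).symm))
      (pullback.fst a b) (pullback.fst a' b') coprod.inl :=
    IsPullback.of_right (by rw [IsPullback.lift_fst]; exact big) (IsPullback.lift_snd _ _ _ _) hQ.flip
  have hLbig := (isPullback_map_inl L hu).paste_horiz hLQ.flip
  rw [← L.map_comp, ← L.map_comp, IsPullback.lift_fst, ← e, L.map_comp, L.map_comp] at hLbig
  exact (IsPullback.of_right hLbig (by rw [← L.map_comp, ← L.map_comp, pullback.condition])
    (isPullback_map_inl L sq2)).flip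

/-- A retract, natural on pointed objects, of a functor preserving pullbacks preserves pointed pullbacks. -/
theorem isPullback_map_of_retract [HasTerminal C] {L' : C ⥤ D} [PreservesLimitsOfShape WalkingCospan L']
    (r : L' ⟶ L) (s : ∀ A : C, (⊤_ C ⟶ A) → (L.obj A ⟶ L'.obj A))
    (hs : ∀ A q, s A q ≫ r.app A = 𝟙 _)
    (nat : ∀ {A B : C} (f : A ⟶ B) (q : ⊤_ C ⟶ A), s A q ≫ L'.map f = L.map f ≫ s B (q ≫ f))
    {P A B Z : C} {p₁ : P ⟶ A} {p₂ : P ⟶ B} {a : A ⟶ Z} {b : B ⟶ Z} (h : IsPullback p₁ p₂ a b) (q : ⊤_ C ⟶ P) :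
    IsPullback (L.map p₁) (L.map p₂) (L.map a) (L.map b) := by
  have h' := h.map L'
  refine IsPullback.mk' (by rw [← L.map_comp, ← L.map_comp, h.w]) ?_ ?_
  · intro T φ φ' e₁ e₂
    have : φ ≫ s P q = φ' ≫ s P q := by
      apply h'.hom_ext
      · simp only [Category.assoc, nat, reassoc_of% e₁]
      · simp only [Category.assoc, nat, reassoc_of% e₂]
    simpa [hs] using congrArg (· ≫ r.app P) this
  · intro T x y e
    refine ⟨h'.lift (x ≫ s A (q ≫ p₁)) (y ≫ s B (q ≫ p₂)) ?_ ≫ r.app P, ?_, ?_⟩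
    · rw [Category.assoc, Category.assoc, nat, nat, Category.assoc q p₁, Category.assoc q p₂, h.w, reassoc_of% e]
    · rw [Category.assoc, ← r.naturality, IsPullback.lift_fst_assoc, Category.assoc, hs, Category.comp_id]
    · rw [Category.assoc, ← r.naturality, IsPullback.lift_snd_assoc, Category.assoc, hs, Category.comp_id]

end Groth.Agent.FibRan16
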