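import Groth.Agent.Lib.FC16.FibTotal
import Mathlib.CategoryTheory.Sites.Limits
import Mathlib.CategoryTheory.Limits.Types.Limits
import Mathlib.CategoryTheory.Functor.KanExtension.Adjunction
import Mathlib.CategoryTheory.Limits.FunctorCategory.Basic
import Mathlib.CategoryTheory.Limits.Preserves.Shapes.Products

/-! Right Kan extensions along the fibre inclusions of a fibred category. -/

universe u

open CategoryTheory CategoryTheory.Limits Opposite Pseudofunctor Pseudofunctor.CoGrothendieck

set_option linter.style.haveILetI false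
set_option linter.unusedSectionVars false
set_option backward.isDefEq.respectTransparency false
set_option backward.isDefEq.respectTransparency.types false

namespace Groth.Agent.FibRan16

open Groth.Agent.FC16.FibTotal

variable {𝒮 : Type u} [SmallCategory 𝒮] {F : Pseudofunctor (LocallyDiscrete 𝒮ᵒᵖ) Cat.{u, u}}
variable {i : 𝒮} [∀ (P : (F.obj ⟨op i⟩)ᵒᵖ ⥤ Type u), (ι F i).op.HasPointwiseRightKanExtension P]

/-- the component indexed by a morphism of the base -/
noncomputable def comp (P : (F.obj ⟨op i⟩)ᵒᵖ ⥤ Type u) {Y : ∫ᶜ F} (f : i ⟶ Y.base) :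
    ((ι F i).op.ran.obj P).obj (op Y) ⟶ P.obj (op ((FibSite.invImage F f).obj Y.fiber)) :=
  ((ι F i).op.ran.obj P).map (cartesianLift Y.fiber f).op ≫ ((ι F i).op.ranCounit.app P).app (op _)

theorem comp_natural {P Q : (F.obj ⟨op i⟩)ᵒᵖ ⥤ Type u} (a : P ⟶ Q) {Y : ∫ᶜ F} (f : i ⟶ Y.base) :
    ((ι F i).op.ran.map a).app (op Y) ≫ comp Q f = comp P f ≫ a.app _ := by
  have h := NatTrans.congr_app ((ι F i).op.ranCounit.naturality a) (op ((FibSite.invImage F f).obj Y.fiber))
  change ((ι F i).op.ran.map a).app _ ≫ ((ι F i).op.ranCounit.app Q).app _ =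
    ((ι F i).op.ranCounit.app P).app _ ≫ a.app _ at h
  rw [comp, comp, ← Category.assoc, ← NatTrans.naturality, Category.assoc, Category.assoc]
  exact congrArg _ h

theorem π_eq (P : (F.obj ⟨op i⟩)ᵒᵖ ⥤ Type u) {Y : ∫ᶜ F} {W : F.obj ⟨op i⟩} (φ : (ι F i).obj W ⟶ Y)
    {f : i ⟶ Y.base} {g : W ⟶ (FibSite.invImage F f).obj Y.fiber}
    (e : φ = (ι F i).map g ≫ cartesianLift Y.fiber f) :
    ((ι F i).op.ran.obj P).map φ.op ≫ ((ι F i).op.ranCounit.app P).app (op W) = comp P f ≫ P.map g.op := by
  subst e
  rw [comp, op_comp, Functor.map_comp, Category.assoc, Category.assoc]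
  exact congrArg _ (((ι F i).op.ranCounit.app P).naturality g.op)

theorem exists_fac {Y : ∫ᶜ F} {W : F.obj ⟨op i⟩} (φ : (ι F i).obj W ⟶ Y) :
    ∃ g : W ⟶ (FibSite.invImage F φ.base).obj Y.fiber, φ = (ι F i).map g ≫ cartesianLift Y.fiber φ.base :=
  ⟨φ.fiber, (fac φ).symm⟩

theorem fibre_eq {Y : ∫ᶜ F} {W : F.obj ⟨op i⟩} {φ : (ι F i).obj W ⟶ Y} {f : i ⟶ Y.base}
    {g : W ⟶ (FibSite.invImage F f).obj Y.fiber} (e : φ = (ι F i).map g ≫ cartesianLift Y.fiber f) :
    φ.base = f := by
  subst e
  simp
  exact Category.id_comp _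

/-- the value of the right Kan extension is the product over the morphisms of the base -/
theorem comp_bijective (P : (F.obj ⟨op i⟩)ᵒᵖ ⥤ Type u) (Y : ∫ᶜ F) :
    Function.Bijective (fun (s : ((ι F i).op.ran.obj P).obj (op Y)) (f : i ⟶ Y.base) => comp P f s) := by
  have hl := (ι F i).op.isPointwiseRightKanExtensionRanCounit P (op Y)
  have hb := (Types.isLimit_iff_bijective_sectionOfCone _).1 ⟨hl⟩
  constructor
  · intro s t h
    refine hb.injective (Subtype.ext (funext fun A => ?_))
    obtain ⟨g, hg⟩ := exists_fac (Y := Y) A.hom.unop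
    have e := π_eq P A.hom.unop hg
    exact (ConcreteCategory.congr_hom e s).trans
      ((congrArg (P.map g.op) (congrFun h _)).trans (ConcreteCategory.congr_hom e t).symm)
  · intro c
    let σ : (StructuredArrow.proj (op Y) (ι F i).op ⋙ P).sections :=
      ⟨fun A => P.map (exists_fac (Y := Y) A.hom.unop).choose.op (c A.hom.unop.base), fun {A B} k => by
        obtain ⟨hA⟩ := Nonempty.intro (exists_fac (Y := Y) A.hom.unop).choose_spec
        obtain ⟨hB⟩ := Nonempty.intro (exists_fac (Y := Y) B.hom.unop).choose_spec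
        have eh : B.hom.unop = (ι F i).map k.right.unop ≫ A.hom.unop := by
          have := congrArg Quiver.Hom.unop (StructuredArrow.w k)
          exact this.symm
        have key : ∀ {f : i ⟶ Y.base} (g : B.right.unop ⟶ (FibSite.invImage F f).obj Y.fiber),
            B.hom.unop = (ι F i).map g ≫ cartesianLift Y.fiber f →
            P.map (exists_fac (Y := Y) B.hom.unop).choose.op (c B.hom.unop.base) = P.map g.op (c f) := by
          intro f g hg
          have hf := fibre_eq hg
          subst hf
          rw [cart_cancel (hB.symm.trans hg)]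
        refine ((key (k.right.unop ≫ (exists_fac (Y := Y) A.hom.unop).choose) (by
          rw [Functor.map_comp, Category.assoc, ← hA]; exact eh)).trans ?_).symm
        rw [op_comp, Functor.map_comp, ConcreteCategory.comp_apply]
        rfl⟩
    obtain ⟨s, hs⟩ := hb.surjective σ
    refine ⟨s, funext fun f => ?_⟩
    let A : StructuredArrow (op Y) (ι F i).op :=
      StructuredArrow.mk (Y := op ((FibSite.invImage F f).obj Y.fiber)) (cartesianLift Y.fiber f).op
    have h2 : (((ι F i).op.ran.obj P).map A.hom ≫ ((ι F i).op.ranCounit.app P).app A.right) s =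
        P.map (exists_fac (Y := Y) A.hom.unop).choose.op (c A.hom.unop.base) :=
      congrArg (fun τ : (StructuredArrow.proj (op Y) (ι F i).op ⋙ P).sections => τ.val A) hs
    refine h2.trans ?_
    have hA := (exists_fac (Y := Y) A.hom.unop).choose_spec
    have : ∀ {f' : i ⟶ Y.base} (g : (FibSite.invImage F f).obj Y.fiber ⟶ (FibSite.invImage F f').obj Y.fiber),
        cartesianLift Y.fiber f = (ι F i).map g ≫ cartesianLift Y.fiber f' → P.map g.op (c f') = c f := by
      intro f' g hg
      have hf : f = f' := by simpa using congrArg Hom.base hg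
      subst hf
      rw [cart_cancel (g' := 𝟙 _) (hg.symm.trans (by simp))]
      simp
    exact this _ hA

variable (j : 𝒮)

/-- the projection of the restriction of the right Kan extension -/
noncomputable def proj (f : i ⟶ j) :
    (ι F i).op.ran ⋙ (Functor.whiskeringLeft _ _ _).obj (ι F j).op ⟶
      (Functor.whiskeringLeft _ _ (Type u)).obj (FibSite.invImage F f).op where
  app P :=
    { app := fun V => comp P (Y := (ι F j).obj V.unop) f
      naturality := fun V W k => by
        change ((ι F i).op.ran.obj P).map ((ι F j).map k.unop).op ≫ (_ ≫ _) =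
          (_ ≫ _) ≫ P.map ((FibSite.invImage F f).map k.unop).op
        rw [← Category.assoc, ← Functor.map_comp, ← op_comp]
        refine (congrArg (fun t => ((ι F i).op.ran.obj P).map (Quiver.Hom.op t) ≫ _) (nat f k.unop).symm).trans ?_
        exact π_eq P (Y := (ι F j).obj V.unop) _ rfl }
  naturality P Q a := by
    ext V : 2
    exact comp_natural a (Y := (ι F j).obj V.unop) f

/-- the restriction of the right Kan extension is the product of the direct images -/
noncomputable def isLimit_proj (P : (F.obj ⟨op i⟩)ᵒᵖ ⥤ Type u) :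
    IsLimit (Fan.mk ((ι F j).op ⋙ (ι F i).op.ran.obj P) fun f : i ⟶ j => (proj j f).app P :
      Fan fun f : i ⟶ j => (FibSite.invImage F f).op ⋙ P) := by
  refine evaluationJointlyReflectsLimits _ fun V => (isLimitMapConeFanMkEquiv _ _ _).symm ?_
  refine Nonempty.some ((Types.isLimit_iff_bijective_sectionOfCone _).2 ?_)
  have hb := comp_bijective P ((ι F j).obj V.unop)
  constructor
  · intro s t h
    exact hb.injective (funext fun f => congrFun (congrArg Subtype.val h) ⟨f⟩)
  · intro σ
    obtain ⟨s, hs⟩ := hb.surjective fun f => σ.1 ⟨f⟩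
    exact ⟨s, Subtype.ext (funext fun ⟨f⟩ => congrFun hs f)⟩

end Groth.Agent.FibRan16
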