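import Groth.Agent.Lib.FibRan16.Sheaf
import Groth.Agent.Lib.FibRan16.Pointed

/-! A pointed presheaf on a fibre is a retract of the restriction of its direct image. -/

universe u

open CategoryTheory CategoryTheory.Limits Opposite Pseudofunctor Pseudofunctor.CoGrothendieck

set_option linter.style.haveILetI false
set_option linter.unusedSectionVars false
set_option backward.isDefEq.respectTransparency false
set_option backward.isDefEq.respectTransparency.types false

namespace Groth.Agent.FibRan16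

open Groth.Agent.FC16.FibTotal

variable {𝒮 : Type u} [SmallCategory 𝒮] {F : Pseudofunctor (LocallyDiscrete 𝒮ᵒᵖ) Cat.{u, u}} {S : 𝒮}
variable [∀ (P : (F.obj ⟨op S⟩)ᵒᵖ ⥤ Type u), (ι F S).op.HasPointwiseRightKanExtension P]

/-- the inverse image of an identity -/
noncomputable def idTrans₀ : FibSite.invImage F (𝟙 S) ⟶ 𝟭 (F.obj ⟨op S⟩) :=
  (F.mapId ⟨op S⟩).hom.toNatTrans

/-- the inverse image of a morphism equal to an identity -/
noncomputable def idTrans {f : S ⟶ S} (h : f = 𝟙 S) : FibSite.invImage F f ⟶ 𝟭 _ :=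
  eqToHom (congrArg (FibSite.invImage F) h) ≫ idTrans₀

open Classical in
/-- the components of the section -/
noncomputable def secComp (P : (F.obj ⟨op S⟩)ᵒᵖ ⥤ Type u) (pt : P.sections) (V : (F.obj ⟨op S⟩)ᵒᵖ)
    (x : P.obj V) (f : S ⟶ S) : P.obj (op ((FibSite.invImage F f).obj V.unop)) :=
  if h : f = 𝟙 S then P.map ((idTrans h).app V.unop).op x else pt.1 _

theorem secComp_naturality (P : (F.obj ⟨op S⟩)ᵒᵖ ⥤ Type u) (pt : P.sections) {V W : (F.obj ⟨op S⟩)ᵒᵖ}
    (k : V ⟶ W) (x : P.obj V) (f : S ⟶ S) :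
    P.map ((FibSite.invImage F f).map k.unop).op (secComp P pt V x f) = secComp P pt W (P.map k x) f := by
  unfold secComp
  split_ifs with h
  · refine (mapTwo P _ _ _).trans (((congrArg (fun t => P.map (Quiver.Hom.op t) x) ((idTrans h).naturality k.unop))).trans ?_)
    exact (mapTwo P _ _ _).symm
  · exact pt.2 _

theorem secComp_natural {P Q : (F.obj ⟨op S⟩)ᵒᵖ ⥤ Type u} (a : P ⟶ Q) (pt : P.sections) (pt' : Q.sections)
    (ha : ∀ V, a.app V (pt.1 V) = pt'.1 V) (V : (F.obj ⟨op S⟩)ᵒᵖ) (x : P.obj V) (f : S ⟶ S) :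
    a.app _ (secComp P pt V x f) = secComp Q pt' V (a.app V x) f := by
  unfold secComp
  split_ifs with h
  · exact NatTrans.naturality_apply a _ x
  · exact ha _

/-- the section into the restriction of the direct image -/
noncomputable def sec (P : (F.obj ⟨op S⟩)ᵒᵖ ⥤ Type u) (pt : P.sections) :
    P ⟶ (ι F S).op ⋙ (ι F S).op.ran.obj P where
  app V := TypeCat.ofHom fun x => (Equiv.ofBijective _ (comp_bijective P ((ι F S).obj V.unop))).symm
    (secComp P pt V x)
  naturality V W k := by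
    refine ConcreteCategory.hom_ext _ _ fun x => (comp_bijective P ((ι F S).obj W.unop)).injective (funext fun f => ?_)
    change comp P f ((Equiv.ofBijective _ (comp_bijective P ((ι F S).obj W.unop))).symm _) =
      (((ι F S).op ⋙ (ι F S).op.ran.obj P).map k ≫ ((proj S f).app P).app W) _
    refine Eq.trans ?_ (ConcreteCategory.congr_hom (((proj S f).app P).naturality k) _).symm
    exact (congrFun (Equiv.ofBijective_apply_symm_apply _ (comp_bijective P ((ι F S).obj W.unop)) _) f).trans
      ((secComp_naturality P pt k x f).symm.trans (congrArg (P.map ((FibSite.invImage F f).map k.unop).op)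
        (congrFun (Equiv.ofBijective_apply_symm_apply _ (comp_bijective P ((ι F S).obj V.unop))
          (secComp P pt V x)) f).symm))

theorem comp_sec (P : (F.obj ⟨op S⟩)ᵒᵖ ⥤ Type u) (pt : P.sections) (V : (F.obj ⟨op S⟩)ᵒᵖ)
    (x : P.obj V) (f : S ⟶ S) : comp P (Y := (ι F S).obj V.unop) f ((sec P pt).app V x) = secComp P pt V x f :=
  congrFun (Equiv.ofBijective_apply_symm_apply _ (comp_bijective P ((ι F S).obj V.unop))
    (secComp P pt V x)) f

theorem sec_counit (P : (F.obj ⟨op S⟩)ᵒᵖ ⥤ Type u) (pt : P.sections) :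
    sec P pt ≫ (ι F S).op.ranCounit.app P = 𝟙 P := by
  refine NatTrans.ext (funext fun V => ConcreteCategory.hom_ext _ _ fun x => ?_)
  have e := π_eq P (Y := (ι F S).obj V.unop) (f := 𝟙 S) (g := (𝟙 ((ι F S).obj V.unop) : (ι F S).obj V.unop ⟶ _).fiber) (𝟙 ((ι F S).obj V.unop))
    (fac (𝟙 ((ι F S).obj V.unop))).symm
  rw [op_id, CategoryTheory.Functor.map_id, Category.id_comp] at e
  refine (ConcreteCategory.congr_hom e _).trans ?_
  refine (congrArg (P.map _) (comp_sec P pt V x _)).trans ?_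
  unfold secComp
  rw [dif_pos rfl]
  refine (mapTwo P _ _ x).trans ?_
  have hg : (𝟙 ((ι F S).obj V.unop) : (ι F S).obj V.unop ⟶ _).fiber =
      (F.mapId ⟨op S⟩).inv.toNatTrans.app V.unop := rfl
  have hh : (idTrans (F := F) (rfl : 𝟙 S = 𝟙 S)).app V.unop = (F.mapId ⟨op S⟩).hom.toNatTrans.app V.unop := by
    simp [idTrans, idTrans₀]
  rw [hg, hh, ← Cat.Hom₂.comp_app, Iso.inv_hom_id]
  exact ConcreteCategory.congr_hom (P.map_id V) x

theorem sec_naturality {P Q : (F.obj ⟨op S⟩)ᵒᵖ ⥤ Type u} (a : P ⟶ Q) (pt : P.sections) (pt' : Q.sections)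
    (ha : ∀ V, a.app V (pt.1 V) = pt'.1 V) :
    sec P pt ≫ Functor.whiskerLeft _ ((ι F S).op.ran.map a) = a ≫ sec Q pt' := by
  refine NatTrans.ext (funext fun V => ConcreteCategory.hom_ext _ _ fun x =>
    (comp_bijective Q ((ι F S).obj V.unop)).injective (funext fun f => ?_))
  refine (ConcreteCategory.congr_hom (comp_natural a (Y := (ι F S).obj V.unop) f) _).trans ?_
  refine (congrArg (a.app _) (comp_sec P pt V x f)).trans ?_
  exact (secComp_natural a pt pt' ha V x f).trans (comp_sec Q pt' V _ f).symm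

/-- a retract of a sheaf is a sheaf -/
theorem isSheaf_of_retract {C : Type*} [Category* C] {J : GrothendieckTopology C} {P Q : Cᵒᵖ ⥤ Type u}
    (s : P ⟶ Q) (r : Q ⟶ P) (h : s ≫ r = 𝟙 P) (hQ : Presieve.IsSheaf J Q) : Presieve.IsSheaf J P := by
  intro X R hR x hx
  have hsr : ∀ V (y : P.obj V), r.app V (s.app V y) = y := fun V y =>
    ConcreteCategory.congr_hom (NatTrans.congr_app h V) y
  obtain ⟨t, ht, ht'⟩ := hQ R hR (fun Y f hf => s.app _ (x f hf)) (hx.map s)
  refine ⟨r.app _ t, fun Y f hf => ?_, fun y hy => ?_⟩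
  · exact (NatTrans.naturality_apply r f.op t).symm.trans ((congrArg _ (ht f hf)).trans (hsr _ _))
  · refine (hsr _ y).symm.trans (congrArg _ (ht' _ fun Y f hf => ?_))
    exact (NatTrans.naturality_apply s f.op y).symm.trans (congrArg _ (hy f hf))

end Groth.Agent.FibRan16
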