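import Groth.Agent.Lib.FibRan16.Ran
import Mathlib.CategoryTheory.Adjunction.Triple
import Mathlib.CategoryTheory.Limits.Constructions.FiniteProductsOfBinaryProducts

/-! The three functors attached to a fibre of a fibred site, on sheaves of sets. -/

universe u

open CategoryTheory CategoryTheory.Limits Opposite Pseudofunctor Pseudofunctor.CoGrothendieck

set_option linter.style.haveILetI false
set_option linter.unusedSectionVars false
set_option backward.isDefEq.respectTransparency false
set_option backward.isDefEq.respectTransparency.types false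

namespace Groth.Agent.FibRan16

open Groth.Agent.FC16.FibTotal

variable {𝒮 : Type u} [SmallCategory 𝒮] {F : Pseudofunctor (LocallyDiscrete 𝒮ᵒᵖ) Cat.{u, u}}
  {J : FibSite.Topologies F} (i j : 𝒮)
  [(ι F i).IsCocontinuous (J i) (FibSite.totalTopology F J)]
  [∀ (P : (F.obj ⟨op i⟩)ᵒᵖ ⥤ Type u), (ι F i).op.HasPointwiseRightKanExtension P]
  [(ι F j).IsContinuous (J j) (FibSite.totalTopology F J)]
  [∀ f : i ⟶ j, (FibSite.invImage F f).IsContinuous (J j) (J i)]

/-- the projections of the restriction of the direct image -/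
noncomputable def shProj (f : i ⟶ j) :
    FibSite.coextend F J (Type u) i ⋙ FibSite.restr F J (Type u) j ⟶
      (FibSite.invImage F f).sheafPushforwardContinuous (Type u) (J j) (J i) where
  app G := ⟨(proj j f).app G.obj⟩
  naturality G H a := ObjectProperty.hom_ext _ ((proj j f).naturality a.hom)

noncomputable def isLimit_shProj (G : Sheaf (J i) (Type u)) :
    IsLimit (Fan.mk ((FibSite.restr F J (Type u) j).obj ((FibSite.coextend F J (Type u) i).obj G))
      fun f => (shProj i j f).app G :
      Fan fun f : i ⟶ j => ((FibSite.invImage F f).sheafPushforwardContinuous (Type u) (J j) (J i)).obj G) :=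
  isLimitOfReflects (sheafToPresheaf (J j) (Type u))
    ((isLimitMapConeFanMkEquiv _ _ _).symm (isLimit_proj j G.obj))

omit [(ι F j).IsContinuous (J j) (FibSite.totalTopology F J)] in
/-- A functor left adjoint to a product of right adjoints is a coproduct of the left adjoints. -/
theorem exists_cofan_of_isLimit {C D : Type*} [Category* C] [Category* D] {σ : Type*} {L : C ⥤ D} {R : D ⥤ C}
    (ad : L ⊣ R) {Lf : σ → C ⥤ D} {Rf : σ → D ⥤ C} (adf : ∀ f, Lf f ⊣ Rf f) (p : ∀ f, R ⟶ Rf f)
    (hp : ∀ b, IsLimit (Fan.mk (R.obj b) fun f => (p f).app b)) (a : C) :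
    ∃ c : Cofan fun f => (Lf f).obj a, Nonempty (IsColimit c) ∧ Nonempty (c.pt ≅ L.obj a) := by
  let leg : ∀ f, (Lf f).obj a ⟶ L.obj a := fun f =>
    ((adf f).homEquiv _ _).symm (ad.unit.app a ≫ (p f).app _)
  have key : ∀ {b : D} (h : L.obj a ⟶ b) (f : σ),
      ((adf f).homEquiv _ _) (leg f ≫ h) = ad.homEquiv _ _ h ≫ (p f).app b := fun {b} h f => by
    rw [Adjunction.homEquiv_naturality_right, Equiv.apply_symm_apply, Category.assoc, ← (p f).naturality,
      ← Category.assoc, ← Adjunction.homEquiv_unit]
  refine ⟨Cofan.mk (L.obj a) leg, ⟨mkCofanColimit _ (fun s => (ad.homEquiv _ _).symm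
    (Fan.IsLimit.lift (hp s.pt) fun f => (adf f).homEquiv _ _ (s.inj f))) (fun s f => ?_) (fun s m hm => ?_)⟩,
    ⟨Iso.refl _⟩⟩
  · apply ((adf f).homEquiv _ _).injective
    refine (key _ f).trans ?_
    rw [Equiv.apply_symm_apply]
    exact Fan.IsLimit.fac (hp s.pt) _ f
  · apply (ad.homEquiv _ _).injective
    rw [Equiv.apply_symm_apply]
    refine Fan.IsLimit.hom_ext (hp s.pt) _ _ fun f => ?_
    refine Eq.trans ?_ (Fan.IsLimit.fac (hp s.pt) _ f).symm
    exact (key m f).symm.trans (congrArg _ (hm f))

end Groth.Agent.FibRan16
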